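import Groth.Agent.Lib.DMod.Basic
import Groth.Agent.Lib.DBaseChange.PC
import Groth.Agent.Lib.FinLocFree14.Free
import Mathlib.Algebra.Module.FinitePresentation
import Mathlib.Algebra.Category.ModuleCat.Biproducts
import Mathlib.Data.Int.Interval

/-!
# Quasi-isomorphic bounded complexes of projectives are stably isomorphic
-/

set_option autoImplicit false
set_option linter.style.haveILetI false
set_option backward.isDefEq.respectTransparency false

universe u

open CategoryTheory CategoryTheory.Limits CategoryTheory.Pretriangulated TensorProduct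

attribute [local instance] HasDerivedCategory.standard

namespace Groth.Agent.StabIso9

variable {R : Type u} [CommRing R]

theorem fp_of_retract {M N : ModuleCat.{u} R} (i : M ⟶ N) (r : N ⟶ M) (h : i ≫ r = 𝟙 M)
    (hN : Module.Finite R N ∧ Module.Projective R N) : Module.Finite R M ∧ Module.Projective R M := by
  haveI := hN.1; haveI := hN.2
  have h' : r.hom.comp i.hom = LinearMap.id := congrArg ModuleCat.Hom.hom h
  exact ⟨Module.Finite.of_surjective r.hom fun x => ⟨_, LinearMap.congr_fun h' x⟩,
    Module.Projective.of_split i.hom r.hom h'⟩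

theorem fp_biprod {M N : ModuleCat.{u} R} (hM : Module.Finite R M ∧ Module.Projective R M)
    (hN : Module.Finite R N ∧ Module.Projective R N) : Module.Finite R (M ⊞ N : ModuleCat.{u} R) ∧ Module.Projective R (M ⊞ N : ModuleCat.{u} R) := by
  haveI := hM.1; haveI := hM.2; haveI := hN.1; haveI := hN.2
  exact fp_of_retract (ModuleCat.biprodIsoProd M N).hom (ModuleCat.biprodIsoProd M N).inv (Iso.hom_inv_id _)
    ⟨inferInstanceAs (Module.Finite R (M × N)), inferInstanceAs (Module.Projective R (M × N))⟩

/-- Bounded acyclic complexes of projectives are contractible. -/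
theorem nonempty_contraction {P : DRing.Cx R} {b : ℤ} [P.IsStrictlyLE b]
    (hP : DRing.TermwiseFiniteProjective P) (h : IsZero (DRing.toD P)) : Nonempty (Homotopy (𝟙 P) 0) := by
  haveI := DMod.isKProjective b fun i => (hP i).2
  exact (DMod.map_eq_zero_iff (𝟙 P)).1 (h.eq_of_src _ _)

/-- Images of the differentials of a contractible complex are finite projective. -/
theorem fp_range {P : DRing.Cx R} (hP : DRing.TermwiseFiniteProjective P) (H : Homotopy (𝟙 P) 0) (i : ℤ) :
    Module.Finite R (LinearMap.range (P.d i (i + 1)).hom) ∧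
      Module.Projective R (LinearMap.range (P.d i (i + 1)).hom) := by
  have key : P.d i (i + 1) ≫ H.hom (i + 1) i ≫ P.d i (i + 1) = P.d i (i + 1) := by
    have hc := congrArg (fun t => t ≫ P.d i (i + 1)) (H.comm i)
    rw [dNext_eq H.hom (show (ComplexShape.up ℤ).Rel i (i + 1) from rfl),
      prevD_eq H.hom (show (ComplexShape.up ℤ).Rel (i - 1) i from sub_add_cancel i 1)] at hc
    simp only [HomologicalComplex.id_f, HomologicalComplex.zero_f, Category.id_comp, add_zero,
      Preadditive.add_comp, Category.assoc, HomologicalComplex.d_comp_d, comp_zero] at hc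
    exact hc.symm
  let B := LinearMap.range (P.d i (i + 1)).hom
  let q : P.X (i + 1) →ₗ[R] B := (P.d i (i + 1)).hom.rangeRestrict ∘ₗ (H.hom (i + 1) i).hom
  have hq : q ∘ₗ B.subtype = LinearMap.id := by
    refine LinearMap.ext fun z => ?_
    obtain ⟨_, x, rfl⟩ := z
    exact Subtype.ext (congrArg (fun t : P.X i ⟶ P.X (i + 1) => t x) key)
  haveI := (hP (i + 1)).1; haveI := (hP (i + 1)).2
  exact ⟨Module.Finite.of_surjective q fun z => ⟨_, LinearMap.congr_fun hq z⟩,
    Module.Projective.of_split B.subtype q hq⟩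

/-- Stable isomorphism. -/
theorem exists_stable_iso (M N : DRing.Cx R) (a b : ℤ) (hM : DRing.VanishesOutside M a b)
    (hN : DRing.VanishesOutside N a b) (hMp : DRing.TermwiseFiniteProjective M)
    (hNp : DRing.TermwiseFiniteProjective N) (h : Nonempty (DRing.toD M ≅ DRing.toD N)) :
    ∃ P Q : DRing.Cx R,
      (DRing.VanishesOutside P (a - 1) b ∧ DRing.TermwiseFiniteProjective P ∧ Nonempty (Homotopy (𝟙 P) 0)) ∧
      (DRing.VanishesOutside Q (a - 1) b ∧ DRing.TermwiseFiniteProjective Q ∧ Nonempty (Homotopy (𝟙 Q) 0)) ∧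
      Nonempty (M ⊞ P ≅ N ⊞ Q) := by
  obtain ⟨e⟩ := h
  haveI : M.IsStrictlyLE b := (CochainComplex.isStrictlyLE_iff M b).2 fun i hi => hM i (Or.inr hi)
  haveI : N.IsStrictlyLE b := (CochainComplex.isStrictlyLE_iff N b).2 fun i hi => hN i (Or.inr hi)
  haveI := DMod.isKProjective b fun i => (hMp i).2
  haveI := DMod.isKProjective b fun i => (hNp i).2
  obtain ⟨φ, hφ⟩ := DMod.exists_map_eq e.hom
  obtain ⟨ψ, hψ⟩ := DMod.exists_map_eq e.inv
  have hz : DerivedCategory.Q.map (𝟙 M - φ ≫ ψ) = 0 := by
    rw [Functor.map_sub, Functor.map_comp, hφ, hψ, Iso.hom_inv_id, CategoryTheory.Functor.map_id]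
    exact sub_self _
  obtain ⟨H⟩ := (DMod.map_eq_zero_iff _).1 hz
  obtain ⟨z, hzz⟩ := CochainComplex.HomComplex.Cochain.equivHomotopy _ _ H
  let Q := CochainComplex.mappingCone (𝟙 M)
  let s : Q ⟶ M := CochainComplex.mappingCone.desc (𝟙 M) z (𝟙 M - φ ≫ ψ) (by
    simpa using hzz.symm)
  let T := N ⊞ Q
  let inc : M ⟶ T := biprod.lift φ (CochainComplex.mappingCone.inr (𝟙 M))
  let r : T ⟶ M := biprod.desc ψ s
  have hir : inc ≫ r = 𝟙 M := by
    simp only [inc, r, s, biprod.lift_desc, CochainComplex.mappingCone.inr_desc]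
    abel
  let P := kernel r
  let p : T ⟶ P := kernel.lift r (𝟙 T - r ≫ inc) (by
    rw [Preadditive.sub_comp, Category.id_comp, Category.assoc, hir, Category.comp_id, sub_self])
  have hιp : kernel.ι r ≫ p = 𝟙 P := by
    rw [← cancel_mono (kernel.ι r), Category.assoc, kernel.lift_ι, Preadditive.comp_sub,
      Category.comp_id, ← Category.assoc, kernel.condition, zero_comp, sub_zero, Category.id_comp]
  let iso : M ⊞ P ≅ T :=
    { hom := biprod.desc inc (kernel.ι r)
      inv := biprod.lift r p
      hom_inv_id := by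
        refine biprod.hom_ext' _ _ ?_ ?_ <;> refine biprod.hom_ext _ _ ?_ ?_
        · simp [hir]
        · simp only [Category.assoc, biprod.inl_desc_assoc, biprod.lift_snd, biprod.inl_snd, Category.comp_id]
          rw [← cancel_mono (kernel.ι r), Category.assoc, kernel.lift_ι, Preadditive.comp_sub, ← Category.assoc, hir]
          simp
        · simp [kernel.condition]
        · simp [hιp]
      inv_hom_id := by simp [biprod.lift_desc, p] }
  have hQx : ∀ i, Q.X i ≅ M.X (i + 1) ⊞ M.X i := fun i =>
    HomologicalComplex.homotopyCofiber.XIsoBiprod (𝟙 M) i (i + 1) rfl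
  have hQp : DRing.TermwiseFiniteProjective Q := fun i =>
    fp_of_retract (hQx i).hom (hQx i).inv (Iso.hom_inv_id _) (fp_biprod (hMp (i + 1)) (hMp i))
  have hQv : DRing.VanishesOutside Q (a - 1) b := fun i hi =>
    ((biprod_isZero_iff _ _).2 ⟨hM _ (by omega), hM _ (by omega)⟩).of_iso (hQx i)
  let eT : ∀ i, T.X i ≅ N.X i ⊞ Q.X i := fun i => (HomologicalComplex.eval _ _ i).mapBiprod N Q
  have hTp : ∀ i, Module.Finite R (T.X i) ∧ Module.Projective R (T.X i) := fun i =>
    fp_of_retract (eT i).hom (eT i).inv (Iso.hom_inv_id _) (fp_biprod (hNp i) (hQp i))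
  have hPp : DRing.TermwiseFiniteProjective P := fun i =>
    fp_of_retract ((kernel.ι r).f i) (p.f i)
      (by rw [← HomologicalComplex.comp_f, hιp, HomologicalComplex.id_f]) (hTp i)
  have hPv : DRing.VanishesOutside P (a - 1) b := fun i hi => by
    rw [IsZero.iff_id_eq_zero, ← HomologicalComplex.id_f, ← hιp, HomologicalComplex.comp_f,
      (((biprod_isZero_iff _ _).2 ⟨hN _ (by omega), hQv i hi⟩).of_iso (eT i)).eq_of_tgt ((kernel.ι r).f i) 0, zero_comp]
  haveI : Q.IsStrictlyLE b := (CochainComplex.isStrictlyLE_iff Q b).2 fun i hi => hQv i (Or.inr hi)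
  haveI : P.IsStrictlyLE b := (CochainComplex.isStrictlyLE_iff P b).2 fun i hi => hPv i (Or.inr hi)
  have hQ0 : IsZero (DRing.toD Q) :=
    (Triangle.isZero₃_iff_isIso₁ _ (DerivedCategory.mappingCone_triangle_distinguished (𝟙 M))).2
      (inferInstanceAs (IsIso (DerivedCategory.Q.map (𝟙 M))))
  have hP0 : IsZero (DRing.toD P) := by
    haveI : IsIso (DerivedCategory.Q.map ψ) := hψ ▸ inferInstance
    have hincφ : inc ≫ (biprod.fst : T ⟶ N) = φ := biprod.lift_fst _ _
    haveI : IsIso (DerivedCategory.Q.map (biprod.fst : T ⟶ N)) := by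
      refine ⟨DerivedCategory.Q.map biprod.inl, ?_, ?_⟩
      · rw [← DerivedCategory.Q.map_comp]
        have : DerivedCategory.Q.map (biprod.snd ≫ biprod.inr : T ⟶ T) = 0 := by
          rw [Functor.map_comp, hQ0.eq_of_tgt (DerivedCategory.Q.map (biprod.snd : T ⟶ Q)) 0, zero_comp]
        rw [← CategoryTheory.Functor.map_id, show 𝟙 T = biprod.fst ≫ biprod.inl + biprod.snd ≫ biprod.inr from biprod.total.symm,
          Functor.map_add, this, add_zero]
      · rw [← DerivedCategory.Q.map_comp, biprod.inl_fst, CategoryTheory.Functor.map_id]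
    haveI : IsIso (DerivedCategory.Q.map inc ≫ DerivedCategory.Q.map (biprod.fst : T ⟶ N)) := by
      rw [← DerivedCategory.Q.map_comp, hincφ, hφ]; infer_instance
    haveI : IsIso (DerivedCategory.Q.map inc) := IsIso.of_isIso_comp_right _ (DerivedCategory.Q.map (biprod.fst : T ⟶ N))
    have hinv : IsIso (DerivedCategory.Q.map r) := by
      haveI : IsIso (DerivedCategory.Q.map inc ≫ DerivedCategory.Q.map r) := by
        rw [← DerivedCategory.Q.map_comp, hir, CategoryTheory.Functor.map_id]; infer_instance
      exact IsIso.of_isIso_comp_left (DerivedCategory.Q.map inc) _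
    rw [IsZero.iff_id_eq_zero, ← CategoryTheory.Functor.map_id, ← hιp, Functor.map_comp]
    have : DerivedCategory.Q.map (kernel.ι r) = 0 := by
      rw [← cancel_mono (DerivedCategory.Q.map r), zero_comp, ← Functor.map_comp, kernel.condition, Functor.map_zero]
    rw [this, zero_comp]
  exact ⟨P, Q, ⟨hPv, hPp, nonempty_contraction (b := b) hPp hP0⟩,
    ⟨hQv, hQp, nonempty_contraction (b := b) hQp hQ0⟩, ⟨iso⟩⟩

/-- Base change of the image along a flat map. -/
theorem free_range_ext (S : Type u) [CommRing S] [Algebra R S] [Module.Flat R S] {M N : Type u}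
    [AddCommGroup M] [Module R M] [AddCommGroup N] [Module R N] (f : M →ₗ[R] N)
    (h : Module.Free S (S ⊗[R] LinearMap.range f)) : Module.Free S (LinearMap.range (f.baseChange S)) := by
  haveI := h
  let ι := (LinearMap.range f).subtype.baseChange S
  have hι : Function.Injective ι := Module.Flat.lTensor_preserves_injective_linearMap (M := S) _ (Submodule.injective_subtype _)
  have hr : LinearMap.range (f.baseChange S) = LinearMap.range ι := by
    have : f.baseChange S = ι ∘ₗ f.rangeRestrict.baseChange S := by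
      rw [← LinearMap.baseChange_comp]
      exact congrArg _ (LinearMap.ext fun x => rfl)
    rw [this, LinearMap.range_comp_of_range_eq_top]
    rw [LinearMap.range_eq_top]
    exact LinearMap.lTensor_surjective S f.surjective_rangeRestrict
  exact Module.Free.of_equiv ((LinearEquiv.ofInjective ι hι).trans (LinearEquiv.ofEq _ _ hr.symm))

/-- After inverting one element off the prime, the contractible complexes become free. -/
theorem exists_away_free (p : Ideal R) [p.IsPrime] {P : DRing.Cx R} {a b : ℤ}
    (hPv : DRing.VanishesOutside P a b) (hP : DRing.TermwiseFiniteProjective P) (H : Homotopy (𝟙 P) 0) :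
    ∃ f : R, f ∉ p ∧ ∀ (S : Type u) [CommRing S] [Algebra R S] [Module.Flat R S], IsUnit (algebraMap R S f) →
      (∀ i : ℤ, Module.Free S (S ⊗[R] P.X i)) ∧
      ∀ i : ℤ, Module.Free S (LinearMap.range ((P.d i (i + 1)).hom.baseChange S)) := by
  classical
  choose fX hfX hX using fun i : ℤ =>
    haveI := (hP i).1; haveI := (hP i).2
    haveI := Module.finitePresentation_of_projective R (P.X i)
    FinLocFree14.exists_free_away (L := P.X i) p
  choose fB hfB hB using fun i : ℤ =>
    haveI := (fp_range hP H i).1; haveI := (fp_range hP H i).2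
    haveI := Module.finitePresentation_of_projective R (LinearMap.range (P.d i (i + 1)).hom)
    FinLocFree14.exists_free_away (L := LinearMap.range (P.d i (i + 1)).hom) p
  refine ⟨∏ i ∈ Finset.Icc a b, fX i * fB i, fun hmem => ?_, fun S _ _ _ hu => ?_⟩
  · obtain ⟨i, -, hi⟩ := (Ideal.IsPrime.prod_mem_iff (p := p) (hp := inferInstance)).1 hmem
    exact (Ideal.IsPrime.mem_or_mem inferInstance hi).elim (hfX i) (hfB i)
  rw [map_prod] at hu
  have hu' : ∀ i ∈ Finset.Icc a b, IsUnit (algebraMap R S (fX i)) ∧ IsUnit (algebraMap R S (fB i)) := fun i hi => by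
    have := IsUnit.prod_iff.1 hu i hi
    rw [map_mul, IsUnit.mul_iff] at this
    exact this
  refine ⟨fun i => ?_, fun i => free_range_ext S _ ?_⟩
  · by_cases hi : i ∈ Finset.Icc a b
    · exact hX i S (hu' i hi).1
    · haveI := ModuleCat.subsingleton_of_isZero (hPv i (by simp only [Finset.mem_Icc, not_and_or, not_le] at hi; omega))
      infer_instance
  · by_cases hi : i ∈ Finset.Icc a b
    · exact hB i S (hu' i hi).2
    · haveI := ModuleCat.subsingleton_of_isZero (hPv i (by simp only [Finset.mem_Icc, not_and_or, not_le] at hi; omega))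
      haveI : Subsingleton (LinearMap.range (P.d i (i + 1)).hom) := by
        refine subsingleton_of_forall_eq 0 fun z => ?_
        obtain ⟨_, x, rfl⟩ := z
        exact Subtype.ext ((congrArg (fun y => (P.d i (i + 1)).hom y) (Subsingleton.elim x 0)).trans (map_zero (P.d i (i + 1)).hom))
      infer_instance

end Groth.Agent.StabIso9
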